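/-
`S₄`-free saturated fusion systems at the prime 2 are solvable, from Goldschmidt's theorem
(owner: helper44).

No canonical characteristic subgroup is used: the system is generated by the normaliser systems of
`Ω₁(Z(S))` and `J(S)`, and the closure `A` of `Ω₁(Z(S))` under `N_F(J(S))` is invariant under both.

* `exists_normal_abelian`       : a nontrivial abelian normal subgroup
* `series_of_goldschmidt`       : an abelian series
* `constrained_of_sThreeFree'`  : the statement of S5109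
* `qdFree_realizable_solvable'` : the statement of S5282
-/
import Cfsg.Agent.Lib.FusionSolvable.SFourFree
import Cfsg.Agent.Lib.SFourBound.Factor
import Cfsg.Agent.Lib.SFourBound.Main

set_option autoImplicit false
set_option linter.unusedSectionVars false
set_option linter.style.haveILetI false
set_option maxHeartbeats 1000000

open scoped Classical

namespace Cfsg.Agent.FusionSolvable

open Cfsg Cfsg.FusionSystem Cfsg.Agent.Fusion

universe u v

variable {Ω : Type u} [Group Ω] {S : Subgroup Ω} {F : FusionSystem S}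

/-- `Ω₁(Z(S))`. -/
def omegaZ (S : Subgroup Ω) : Subgroup Ω :=
  Cfsg.omegaOne 2 (S ⊓ Subgroup.centralizer (S : Set Ω))

theorem mem_omegaZ {z : Ω} :
    z ∈ omegaZ S ↔ z ∈ S ∧ z ∈ Subgroup.centralizer (S : Set Ω) ∧ z ^ 2 = 1 := by
  refine ⟨fun h => ?_, fun ⟨h1, h2, h3⟩ => Subgroup.subset_closure ⟨⟨h1, h2⟩, h3⟩⟩
  induction h using Subgroup.closure_induction with
  | mem x hx => exact ⟨hx.1.1, hx.1.2, hx.2⟩
  | one => exact ⟨S.one_mem, one_mem _, one_pow 2⟩
  | mul a b _ _ ha hb =>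
    refine ⟨S.mul_mem ha.1 hb.1, mul_mem ha.2.1 hb.2.1, ?_⟩
    have hab : Commute a b := Subgroup.mem_centralizer_iff.1 hb.2.1 a ha.1
    rw [hab.mul_pow, ha.2.2, hb.2.2, one_mul]
  | inv a _ ha => exact ⟨S.inv_mem ha.1, inv_mem ha.2.1, by rw [inv_pow, ha.2.2, inv_one]⟩

theorem omegaZ_le : omegaZ S ≤ S := fun _ hz => (mem_omegaZ.1 hz).1

theorem omegaZ_le_normalizerIn {U : Subgroup Ω} (hU : U ≤ S) : omegaZ S ≤ normalizerIn S U := by
  intro z hz
  obtain ⟨h1, h2, -⟩ := mem_omegaZ.1 hz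
  exact centralizerIn_le_normalizerIn S U ⟨h1, Subgroup.centralizer_le (SetLike.coe_subset_coe.2 hU) h2⟩

theorem omegaZ_ne_bot [Finite S] (hS : IsPGroup 2 S) (hne : S ≠ ⊥) : omegaZ S ≠ ⊥ := by
  haveI : Fact (Nat.Prime 2) := ⟨Nat.prime_two⟩
  intro e
  set C := S ⊓ Subgroup.centralizer (S : Set Ω)
  have hC : C ≠ ⊥ := Fusion.center_ne_bot hS hne
  haveI : Finite C := finite_of_le (S := S) inf_le_left
  haveI : Nontrivial C := (Subgroup.nontrivial_iff_ne_bot C).2 hC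
  have hCp : IsPGroup 2 C := hS.to_le inf_le_left
  obtain ⟨n, hn⟩ := IsPGroup.iff_card.1 hCp
  have hn0 : n ≠ 0 := by
    rintro rfl
    have := Finite.one_lt_card (α := C)
    omega
  obtain ⟨x, hx⟩ := exists_prime_orderOf_dvd_card' (G := C) 2 (hn ▸ dvd_pow_self 2 hn0)
  have h1 : (x : Ω) ∈ omegaZ S := mem_omegaZ.2 ⟨x.2.1, x.2.2, by
    have := pow_orderOf_eq_one x
    rw [hx] at this
    exact congrArg Subtype.val this⟩
  rw [e, Subgroup.mem_bot] at h1
  rw [show x = 1 from Subtype.ext h1, orderOf_one] at hx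
  omega

/-- A central involution of `T` lies in `J(T)`. -/
theorem mem_jOf_of_central {T : Subgroup Ω} [Finite T] {z : Ω} (hz : z ∈ T) (h2 : z ^ 2 = 1)
    (hc : ∀ t ∈ T, t * z = z * t) : z ∈ Cfsg.thompsonSubgroupOf 2 T := by
  obtain ⟨B, hB⟩ := JComp.exists_maxElem (⊤ : Subgroup T)
  have h1 : (⟨z, hz⟩ : T) ∈ B := PLocal.mem_of_centralizes hB (Subgroup.mem_top _) (Subtype.ext h2)
    (Subgroup.mem_centralizer_iff.2 fun b _ => Subtype.ext (hc b b.2))
  have h2 := JComp.le_jOf hB h1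
  rw [PLocal.thompsonSubgroupOf_top] at h2
  exact ⟨_, h2, rfl⟩

theorem jOf_ne_bot [Finite S] (hS : IsPGroup 2 S) (hne : S ≠ ⊥) :
    Cfsg.thompsonSubgroupOf 2 S ≠ ⊥ := by
  intro e
  refine omegaZ_ne_bot hS hne (le_bot_iff.1 fun z hz => ?_)
  obtain ⟨h1, h2, h3⟩ := mem_omegaZ.1 hz
  exact e.le (mem_jOf_of_central h1 h3 fun t ht => Subgroup.mem_centralizer_iff.1 h2 t ht)

section Transport
variable {T : Subgroup Ω} {L : Type v} [Group L] {ι : T →* L}

theorem map_jOf (hι : Function.Injective ι) :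
    ((Cfsg.thompsonSubgroupOf 2 T).subgroupOf T).map ι = Cfsg.thompsonSubgroupOf 2 ι.range := by
  rw [Cfsg.thompsonSubgroupOf, Subgroup.subgroupOf,
    Subgroup.comap_map_eq_self_of_injective T.subtype_injective, ← PLocal.thompsonSubgroupOf_top,
    PLocal.map_thompsonSubgroupOf ι hι.injOn, ← MonoidHom.range_eq_map]

theorem mem_jOf_iff (hι : Function.Injective ι) {x : Ω} (hx : x ∈ T) :
    ι ⟨x, hx⟩ ∈ Cfsg.thompsonSubgroupOf 2 ι.range ↔ x ∈ Cfsg.thompsonSubgroupOf 2 T := by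
  rw [← map_jOf hι]
  exact ⟨fun ⟨y, hy, e⟩ => by rw [hι e] at hy; exact hy, fun h => ⟨_, h, rfl⟩⟩

end Transport

/-- The model of the normalizer system of a fully normalised subgroup with constrained system. -/
theorem exists_model_free [Finite S] (hS : IsPGroup 2 S) (hF : F.IsSaturated 2)
    (hfree : F.IsSectionFree 2 (Equiv.Perm (Fin 4))) {U : Subgroup Ω} (hU : F.IsFullyNormalized U)
    {E : FusionSystem (normalizerIn S U)} (hE : F.IsNormalizerSystem U E) (hc : E.IsConstrained 2) :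
    ∃ (L : Type u) (_ : Group L) (_ : Finite L) (ι : normalizerIn S U →* L) (P : Sylow 2 L),
      (P : Subgroup L) = ι.range ∧ E.IsRealizedBy ι ∧
      Subgroup.centralizer (Cfsg.pCore 2 L : Set L) ≤ Cfsg.pCore 2 L ∧
      ¬ Cfsg.Involves (Equiv.Perm (Fin 4)) L := by
  haveI : Fact (Nat.Prime 2) := ⟨Nat.prime_two⟩
  haveI : Finite (normalizerIn S U) := finite_of_le (S := S) inf_le_left
  have hT : IsPGroup 2 (normalizerIn S U) := hS.to_le inf_le_left
  have hfree' := isSectionFree_normalizer hS hF hU hE hfree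
  have h := nc_core hT hc
  haveI := h.finite_mdl
  obtain ⟨-, hι, ⟨P, hP⟩, hC⟩ := h.isModel_emb
  exact ⟨h.Mdl, inferInstance, inferInstance, h.emb, P, hP, hι, hC,
    not_involves_of_constrained hT hc hfree'⟩

/-- A subgroup of `T` carried into `ι.range` by `m`, from generators. -/
theorem conj_mem_range_of_le {T : Subgroup Ω} {L : Type v} [Group L] (ι : T →* L) (m : L)
    {A B : Subgroup Ω} (hA : A ≤ T) (hB : B ≤ T)
    (h1 : ∀ x (hx : x ∈ A), ∃ s : T, m * ι ⟨x, hA hx⟩ * m⁻¹ = ι s)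
    (h2 : ∀ x (hx : x ∈ B), ∃ s : T, m * ι ⟨x, hB hx⟩ * m⁻¹ = ι s) :
    ∀ x (hx : x ∈ A ⊔ B), ∃ s : T, m * ι ⟨x, sup_le hA hB hx⟩ * m⁻¹ = ι s := by
  intro x hx
  have hle : A ⊔ B ≤ ((ι.range.comap (MulAut.conj m).toMonoidHom).comap ι).map T.subtype := by
    refine sup_le (fun y hy => ?_) (fun y hy => ?_)
    · obtain ⟨s, hs⟩ := h1 y hy
      exact ⟨⟨y, hA hy⟩, ⟨s, hs.symm⟩, rfl⟩
    · obtain ⟨s, hs⟩ := h2 y hy
      exact ⟨⟨y, hB hy⟩, ⟨s, hs.symm⟩, rfl⟩
  obtain ⟨y, ⟨s, hs⟩, rfl⟩ := hle hx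
  exact ⟨s, hs.symm⟩

/-- A nontrivial normal abelian subgroup, when all proper normalizer systems are constrained. -/
theorem exists_normal_abelian [Finite S] (hG : SFourBound.GoldschmidtThm.{u}) (hS : IsPGroup 2 S)
    (hne : S ≠ ⊥) (hF : F.IsSaturated 2) (hfree : F.IsSectionFree 2 (Equiv.Perm (Fin 4)))
    (hcon : ∀ U : Subgroup Ω, F.IsFullyNormalized U → U ≠ ⊥ →
      ∀ E : FusionSystem (normalizerIn S U), F.IsNormalizerSystem U E → E.IsConstrained 2) :
    ∃ A : Subgroup Ω, A ≠ ⊥ ∧ IsMulCommutative A ∧ F.IsNormal A := by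
  haveI : Fact (Nat.Prime 2) := ⟨Nat.prime_two⟩
  have hfin : ∀ U : Subgroup Ω, Finite (normalizerIn S U) := fun U => finite_of_le (S := S) inf_le_left
  set J := Cfsg.thompsonSubgroupOf 2 S with hJdef
  set Z := omegaZ S with hZdef
  have hJS : J ≤ S := PLocal.thompsonSubgroupOf_le S
  have hJn : normalizerIn S J = S := inf_eq_left.2
    (Subgroup.le_normalizer.trans (PLocal.normalizer_le_normalizer_thompsonSubgroupOf S))
  have hZn : normalizerIn S Z = S := inf_eq_left.2 fun s hs => by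
    refine Subgroup.mem_normalizer_iff.2 fun z => ⟨fun hz => ?_, fun hz => ?_⟩
    · have e := Subgroup.mem_centralizer_iff.1 (mem_omegaZ.1 hz).2.1 s hs
      rwa [e, mul_inv_cancel_right]
    · have e := Subgroup.mem_centralizer_iff.1 (mem_omegaZ.1 hz).2.1 s⁻¹ (S.inv_mem hs)
      have : z = s * z * s⁻¹ := by
        have h1 : s⁻¹ * (s * z * s⁻¹) * s = s * z * s⁻¹ := by rw [e, inv_mul_cancel_right]
        rw [← h1]; group
      rwa [this]
  have hfn : ∀ {U : Subgroup Ω}, U ≤ S → normalizerIn S U = S → F.IsFullyNormalized U :=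
    fun hU hn => ⟨hU, fun R _ => hn.symm ▸ Subgroup.card_le_of_le inf_le_left⟩
  -- the model of `N_F(J(S))`
  set T := normalizerIn S J with hTdef
  obtain ⟨EJ, hEJ⟩ := exists_normalizerSystem (F := F) hJS
  obtain ⟨L, gL, fL, ι, P, hP, hι, -, hLfree⟩ := exists_model_free hS hF hfree (hfn hJS hJn) hEJ
    (hcon J (hfn hJS hJn) (jOf_ne_bot hS hne) EJ hEJ)
  set N := Subgroup.normalizer (Cfsg.thompsonSubgroupOf 2 (P : Subgroup L) : Set L) with hNdef
  obtain ⟨AL, hALdef⟩ : ∃ AL : Subgroup L, AL = (Subgroup.normalClosure (((Cfsg.omegaOne 2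
      ((P : Subgroup L) ⊓ Subgroup.centralizer ((P : Subgroup L) : Set L))).subgroupOf N :
        Subgroup ↥N) : Set ↥N)).map N.subtype := ⟨_, rfl⟩
  have hset := SFourClosed.setting_normalClosure P hLfree (SFourBound.secBound_of_goldschmidt hG L)
    hNdef hALdef
  set A := (AL.comap ι).map T.subtype with hAdef
  have hAT : A ≤ T := Subgroup.map_subtype_le _
  have hAmem : ∀ x (hx : x ∈ T), x ∈ A ↔ ι ⟨x, hx⟩ ∈ AL := fun x hx =>
    ⟨fun ⟨y, hy, e⟩ => by
      rwa [show (⟨x, hx⟩ : T) = y from Subtype.ext e.symm], fun h => ⟨⟨x, hx⟩, h, rfl⟩⟩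
  have hJmem : ∀ x (hx : x ∈ T), ι ⟨x, hx⟩ ∈ Cfsg.thompsonSubgroupOf 2 (P : Subgroup L) ↔ x ∈ J := by
    intro x hx
    refine (hP ▸ mem_jOf_iff hι.1 hx).trans ?_
    rw [show normalizerIn S J = S from hJn]
  have hJT : J ≤ T := hJn.symm ▸ hJS
  have hAJ : A ≤ J := fun x hx => (hJmem x (hAT hx)).1 (hset.hyp.le_jOf ((hAmem x (hAT hx)).1 hx))
  have hAcomm : ∀ a ∈ A, ∀ b ∈ A, a * b = b * a := fun a ha b hb => by
    have h1 := JComp.elem_comm hset.hyp.elem ((hAmem a (hAT ha)).1 ha) ((hAmem b (hAT hb)).1 hb)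
    rw [← map_mul, ← map_mul] at h1
    exact congrArg Subtype.val (hι.1 h1)
  have hA2 : ∀ a ∈ A, a ^ 2 = 1 := fun a ha => by
    have h1 := hset.hyp.elem.2 _ ((hAmem a (hAT ha)).1 ha)
    rw [← map_pow, ← map_one ι] at h1
    exact congrArg Subtype.val (hι.1 h1)
  have hJA : ∀ x ∈ J, ∀ a ∈ A, a * x = x * a := fun x hx a ha => by
    have h1 := Subgroup.mem_centralizer_iff.1 (hset.hyp.cent ((hJmem x (hJT hx)).2 hx)) _
      ((hAmem a (hAT ha)).1 ha)
    rw [← map_mul, ← map_mul] at h1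
    exact congrArg Subtype.val (hι.1 h1)
  have hAne : A ≠ ⊥ := by
    intro e
    refine omegaZ_ne_bot hS hne (le_bot_iff.1 fun z hz => ?_)
    obtain ⟨h1, h2, h3⟩ := mem_omegaZ.1 hz
    have hzT : z ∈ T := hJn.symm ▸ h1
    have hzP : ι ⟨z, hzT⟩ ∈ (P : Subgroup L) := hP.symm ▸ ⟨_, rfl⟩
    have hzN : ι ⟨z, hzT⟩ ∈ N :=
      PLocal.normalizer_le_normalizer_thompsonSubgroupOf _ (Subgroup.le_normalizer hzP)
    refine e.le ((hAmem z hzT).2 ?_)
    rw [hALdef]
    refine ⟨⟨_, hzN⟩, Subgroup.subset_normalClosure ?_, rfl⟩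
    show ι ⟨z, hzT⟩ ∈ Cfsg.omegaOne 2 _
    refine Subgroup.subset_closure ⟨⟨hzP, Subgroup.mem_centralizer_iff.2 fun y hy => ?_⟩, ?_⟩
    · rw [hP] at hy
      obtain ⟨t, rfl⟩ := hy
      rw [← map_mul, ← map_mul]
      exact congrArg ι (Subtype.ext (Subgroup.mem_centralizer_iff.1 h2 t ((inf_le_left : T ≤ S) t.2)))
    · rw [← map_pow, show (⟨z, hzT⟩ : T) ^ 2 = 1 from Subtype.ext h3, map_one]
  -- maps keeping `J(S)` keep `A`
  have hinv : ∀ {Q : Subgroup Ω} {g : Ω → Ω}, IsMap F Q g → J ≤ Q → (∀ x ∈ J, g x ∈ J) →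
      ∀ a ∈ A, g a ∈ A := by
    intro Q g hg hJQ hgJ a ha
    have hgE : IsMap EJ J g := (isMap_normalizer_iff hJS hEJ).2
      ⟨hJT, fun x hx => hJT (hgJ x hx), g, (sup_idem J).symm ▸ hg.mono hJQ, fun _ _ => rfl, hgJ⟩
    obtain ⟨n, hn⟩ := (isMap_realized_iff hι hgE.le (fun x hx => hgE.mem hx)
      fun x hx y hy => hgE.map_mul hx hy).1 hgE
    have hnN : n ∈ N := by
      refine AlperinFamily.cj_eq_iff.1 (Subgroup.eq_of_le_of_card_ge ?_ (AlperinFamily.card_cj n _).ge)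
      rintro _ ⟨y, hy, rfl⟩
      obtain ⟨⟨x, hx⟩, rfl⟩ : y ∈ ι.range := hP ▸ PLocal.thompsonSubgroupOf_le _ hy
      have hxJ := (hJmem x hx).1 hy
      show n * ι ⟨x, hx⟩ * n⁻¹ ∈ _
      rw [hn x hxJ]
      exact (hJmem (g x) _).2 (hgJ x hxJ)
    have h1 := (Subgroup.mem_normalizer_iff.1 (hset.hyp.normJ hnN) _).1 ((hAmem a (hAT ha)).1 ha)
    rw [hn a (hAJ ha)] at h1
    exact (hAmem _ _).2 h1
  -- the model of `N_F(Z)`
  set T₂ := normalizerIn S Z with hT₂def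
  obtain ⟨EZ, hEZ⟩ := exists_normalizerSystem (F := F) (omegaZ_le (S := S))
  obtain ⟨X, gX, fX, κ, P₂, hP₂, hκ, hXc, hXfree⟩ := exists_model_free hS hF hfree
    (hfn omegaZ_le hZn) hEZ (hcon Z (hfn omegaZ_le hZn) (omegaZ_ne_bot hS hne) EZ hEZ)
  have hTT : T = T₂ := hJn.trans hZn.symm
  set AX := (A.subgroupOf T₂).map κ with hAXdef
  have hAXmem : ∀ x (hx : x ∈ T₂), κ ⟨x, hx⟩ ∈ AX ↔ x ∈ A := fun x hx =>
    ⟨fun ⟨y, hy, e⟩ => by rw [hκ.1 e] at hy; exact hy, fun h => ⟨⟨x, hx⟩, h, rfl⟩⟩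
  have hJ₂mem : ∀ x (hx : x ∈ T₂), κ ⟨x, hx⟩ ∈ Cfsg.thompsonSubgroupOf 2 (P₂ : Subgroup X) ↔ x ∈ J := by
    intro x hx
    refine (hP₂ ▸ mem_jOf_iff hκ.1 hx).trans ?_
    rw [show normalizerIn S (omegaZ S) = S from hZn]
  have hAXP : AX ≤ (P₂ : Subgroup X) := by
    rintro _ ⟨y, -, rfl⟩
    exact hP₂.symm ▸ ⟨y, rfl⟩
  have hAXn : (P₂ : Subgroup X) ≤ Subgroup.normalizer (AX : Set X) := by
    intro p hp
    refine AlperinFamily.cj_eq_iff.1 (Subgroup.eq_of_le_of_card_ge ?_ (AlperinFamily.card_cj p _).ge)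
    rw [hP₂] at hp
    obtain ⟨t, rfl⟩ := hp
    rintro _ ⟨_, ⟨⟨x, hxT⟩, hx, rfl⟩, rfl⟩
    show κ t * κ ⟨x, hxT⟩ * (κ t)⁻¹ ∈ AX
    rw [← map_inv, ← map_mul, ← map_mul]
    have htS : (t : Ω) ∈ S := (inf_le_left : T₂ ≤ S) t.2
    exact (hAXmem _ _).2 (hinv (IsMap.conj (F := F) hJS htS) le_rfl
      (fun y hy => (Subgroup.mem_normalizer_iff.1 ((hJn.symm ▸ htS : (t : Ω) ∈ T).2) y).1 hy) x hx)
  have hXA : AX.Normal := by
    refine SFourClosed.Hyp.normal hXfree (SFourBound.secBound_of_goldschmidt hG X) hXc (S := P₂)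
      ⟨⟨⟨⟨fun a b => ?_⟩⟩, fun a ha => ?_⟩, hAXP, hAXn, fun y hy => ?_, fun n hn => ?_, ?_⟩
    · obtain ⟨x, hx, ex⟩ := a.2
      obtain ⟨y, hy, ey⟩ := b.2
      refine Subtype.ext ?_
      show (a : X) * b = b * a
      rw [← ex, ← ey, ← map_mul, ← map_mul]
      exact congrArg κ (Subtype.ext (hAcomm x hx y hy))
    · obtain ⟨x, hx, rfl⟩ := ha
      rw [← map_pow, show x ^ 2 = 1 from Subtype.ext (hA2 x hx), map_one]
    · obtain ⟨⟨x, hx⟩, rfl⟩ : y ∈ κ.range := hP₂ ▸ PLocal.thompsonSubgroupOf_le _ hy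
      refine Subgroup.mem_centralizer_iff.2 ?_
      rintro _ ⟨a, ha, rfl⟩
      rw [← map_mul, ← map_mul]
      exact congrArg κ (Subtype.ext (hJA x ((hJ₂mem x hx).1 hy) a ha))
    · have hJT₂ : J ≤ T₂ := hTT ▸ hJT
      have hconj : ∀ (w : Ω) (hw : w ∈ J), ∃ s : T₂, n * κ ⟨w, hJT₂ hw⟩ * n⁻¹ = κ s := fun w hw => by
        have h1 := PLocal.thompsonSubgroupOf_le _
          ((Subgroup.mem_normalizer_iff.1 hn _).1 ((hJ₂mem w (hJT₂ hw)).2 hw))
        rw [hP₂] at h1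
        obtain ⟨s, hs⟩ := h1
        exact ⟨s, hs.symm⟩
      obtain ⟨g, hg, hgn⟩ := exists_map_of_conj hκ hJT₂ n hconj
      have hgJ : ∀ x ∈ J, g x ∈ J := fun x hx => by
        obtain ⟨hgT, e⟩ := hgn x hx
        have h1 := (Subgroup.mem_normalizer_iff.1 hn _).1 ((hJ₂mem x (hJT₂ hx)).2 hx)
        rw [e] at h1
        exact (hJ₂mem _ hgT).1 h1
      refine AlperinFamily.cj_eq_iff.1 (Subgroup.eq_of_le_of_card_ge ?_ (AlperinFamily.card_cj n _).ge)
      rintro _ ⟨_, ⟨⟨x, hxT⟩, hx, rfl⟩, rfl⟩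
      obtain ⟨hgT, e⟩ := hgn x (hAJ hx)
      show n * κ ⟨x, hxT⟩ * n⁻¹ ∈ AX
      rw [e]
      exact (hAXmem _ hgT).2 (hinv (isMap_of_subsystem (sub_normalizer hEZ) hg) le_rfl hgJ x hx)
    · refine SFourClosed.bound_of_sylow P₂ hAXP hAXn ?_
      let e : ↥(P : Subgroup L) ≃* ↥(P₂ : Subgroup X) :=
        (MulEquiv.subgroupCongr hP).trans ((MonoidHom.ofInjective hι.1).symm.trans
          ((MulEquiv.subgroupCongr hTT).trans
            ((MonoidHom.ofInjective hκ.1).trans (MulEquiv.subgroupCongr hP₂.symm))))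
      have he : ∀ (x : Ω) (hx : x ∈ T) (hm : ι ⟨x, hx⟩ ∈ (P : Subgroup L)),
          (e ⟨ι ⟨x, hx⟩, hm⟩ : X) = κ ⟨x, hTT.le hx⟩ := by
        intro x hx hm
        have e1 : (MonoidHom.ofInjective hι.1).symm ((MulEquiv.subgroupCongr hP) ⟨ι ⟨x, hx⟩, hm⟩) =
            ⟨x, hx⟩ := by
          rw [MulEquiv.symm_apply_eq]
          exact Subtype.ext rfl
        show ((MonoidHom.ofInjective hκ.1) ((MulEquiv.subgroupCongr hTT)
          ((MonoidHom.ofInjective hι.1).symm ((MulEquiv.subgroupCongr hP) ⟨ι ⟨x, hx⟩, hm⟩))) : X) = _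
        rw [e1]
        rfl
      have hmap : (AL.subgroupOf (P : Subgroup L)).map e.toMonoidHom = AX.subgroupOf (P₂ : Subgroup X) := by
        ext y
        obtain ⟨⟨w, hw⟩, rfl⟩ := e.surjective y
        obtain ⟨⟨x, hx⟩, rfl⟩ : w ∈ ι.range := hP ▸ hw
        rw [Subgroup.mem_subgroupOf, he x hx hw, hAXmem, hAmem x hx]
        exact ⟨fun ⟨z, hz, hze⟩ => by rw [e.injective hze] at hz; exact hz, fun h => ⟨_, h, rfl⟩⟩
      rw [← hmap]
      exact (hset.hyp.bound.subgroup hset.hyp.le).map_equiv e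
  -- maps keeping `Z` keep `A`
  have hZgood : ∀ {Q : Subgroup Ω} {g : Ω → Ω}, IsMap F Q g → Z ≤ Q → (∀ z ∈ Z, g z ∈ Z) →
      ∀ a ∈ Q, a ∈ A → g a ∈ A := by
    intro Q g hg hZQ hgZ a haQ ha
    have hgE : IsMap EZ Q g := (isMap_normalizer_iff omegaZ_le hEZ).2
      ⟨hg.le.trans hZn.ge, fun x hx => hZn.ge (hg.mem hx), g, (sup_eq_left.2 hZQ).symm ▸ hg,
        fun _ _ => rfl, hgZ⟩
    obtain ⟨n, hn⟩ := (isMap_realized_iff hκ hgE.le (fun x hx => hgE.mem hx)
      fun x hx y hy => hgE.map_mul hx hy).1 hgE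
    have h1 := hXA.conj_mem _ ((hAXmem a (hgE.le haQ)).2 ha) n
    rw [hn a haQ] at h1
    exact (hAXmem _ _).1 h1
  -- all maps keep `A`
  have claim : ∀ (k : ℕ) (U : Subgroup Ω), Nat.card S - Nat.card (normalizerIn S U) = k →
      F.IsFullyNormalized U → U ≠ ⊥ →
      ∀ (E : FusionSystem (normalizerIn S U)), F.IsNormalizerSystem U E →
      ∀ Q f, IsMap E Q f → ∀ a ∈ Q, a ∈ A → f a ∈ A := by
    intro k
    induction k using Nat.strong_induction_on with
    | _ k ihk =>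
    intro U hk hUfn hUne
    set TU := normalizerIn S U with hTUdef
    intro E hE Q f hf a haQ ha
    have hTS : normalizerIn S U ≤ S := inf_le_left
    haveI := hfin U
    obtain ⟨M, gM, fM, μ, PM, hPM, hμ, hMc, hMfree⟩ :=
      exists_model_free hS hF hfree hUfn hE (hcon U hUfn hUne E hE)
    obtain ⟨g, hg⟩ := (isMap_realized_iff hμ hf.le (fun x hx => hf.mem hx)
      fun x hx y hy => hf.map_mul hx hy).1 hf
    set QM := (Q.subgroupOf TU).map μ
    have hQM : QM ≤ (PM : Subgroup M) := by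
      rintro _ ⟨y, -, rfl⟩
      exact hPM.symm ▸ ⟨y, rfl⟩
    have hgQM : AlperinFamily.cj g QM ≤ (PM : Subgroup M) := by
      rintro _ ⟨_, ⟨⟨x, hxT⟩, hx, rfl⟩, rfl⟩
      show g * μ ⟨x, hxT⟩ * g⁻¹ ∈ _
      rw [hg x hx]
      exact hPM.symm ▸ ⟨_, rfl⟩
    obtain ⟨n, c, rfl, hcQ, hcZ, hnJ⟩ := SFourClosed.exists_thompson_factor hMfree
      (SFourBound.secBound_of_goldschmidt hG M) hMc PM hQM hgQM
    -- first factor
    have hZT : Z ≤ TU := omegaZ_le_normalizerIn hUfn.1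
    have hcZ' : ∀ z (hz : z ∈ Z), c * μ ⟨z, hZT hz⟩ * c⁻¹ = μ ⟨z, hZT hz⟩ := by
      intro z hz
      obtain ⟨h1, h2, h3⟩ := mem_omegaZ.1 hz
      have hm : μ ⟨z, hZT hz⟩ ∈ Cfsg.omegaOne 2
          ((PM : Subgroup M) ⊓ Subgroup.centralizer ((PM : Subgroup M) : Set M)) := by
        refine Subgroup.subset_closure ⟨⟨hPM.symm ▸ ⟨_, rfl⟩,
          Subgroup.mem_centralizer_iff.2 fun y hy => ?_⟩, ?_⟩
        · rw [hPM] at hy
          obtain ⟨t, rfl⟩ := hy
          rw [← map_mul, ← map_mul]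
          exact congrArg μ (Subtype.ext (Subgroup.mem_centralizer_iff.1 h2 t (hTS t.2)))
        · rw [← map_pow, show (⟨z, hZT hz⟩ : TU) ^ 2 = 1 from Subtype.ext h3, map_one]
      rw [hcZ _ hm, mul_inv_cancel_right]
    obtain ⟨g₁, hg₁, hg₁c⟩ := exists_map_of_conj hμ (sup_le hf.le hZT) c
      (conj_mem_range_of_le μ c hf.le hZT (fun x hx => by
        have h1 : c * μ ⟨x, hf.le hx⟩ * c⁻¹ ∈ (PM : Subgroup M) := hcQ ⟨_, ⟨⟨x, hf.le hx⟩, hx, rfl⟩, rfl⟩
        rw [hPM] at h1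
        obtain ⟨s, hs⟩ := h1
        exact ⟨s, hs.symm⟩) fun z hz => ⟨_, hcZ' z hz⟩)
    have hg₁Z : ∀ z ∈ Z, g₁ z ∈ Z := fun z hz => by
      obtain ⟨hgz, e⟩ := hg₁c z (Subgroup.mem_sup_right hz)
      rw [hcZ' z hz] at e
      have e' : z = g₁ z := congrArg Subtype.val (hμ.1 e)
      rwa [← e']
    have hb : g₁ a ∈ A := hZgood (isMap_of_subsystem (sub_normalizer hE) hg₁) le_sup_right hg₁Z a
      (Subgroup.mem_sup_left haQ) ha
    -- second factor
    set V := Cfsg.thompsonSubgroupOf 2 TU with hVdef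
    have hVT : V ≤ TU := PLocal.thompsonSubgroupOf_le TU
    have hVmem : ∀ x (hx : x ∈ TU), μ ⟨x, hx⟩ ∈ Cfsg.thompsonSubgroupOf 2 (PM : Subgroup M) ↔ x ∈ V := by
      intro x hx
      rw [hPM, mem_jOf_iff hμ.1]
    set Q₁ := img g₁ Q with hQ₁def
    have hQ₁T : Q₁ ≤ TU := hg₁.img_le le_sup_left fun x hx => hg₁.mem (Subgroup.mem_sup_left hx)
    obtain ⟨g₂, hg₂, hg₂n⟩ := exists_map_of_conj hμ (sup_le hQ₁T hVT) n
      (conj_mem_range_of_le μ n hQ₁T hVT (fun y hy => by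
        obtain ⟨x, hx, rfl⟩ := (hg₁.mem_img_iff (le_sup_left : Q ≤ Q ⊔ Z)).1 hy
        obtain ⟨_, e⟩ := hg₁c x (Subgroup.mem_sup_left hx)
        refine ⟨⟨f x, hf.mem hx⟩, ?_⟩
        rw [← hg x hx, ← e]
        group) fun y hy => by
        have h1 := PLocal.thompsonSubgroupOf_le _
          ((Subgroup.mem_normalizer_iff.1 hnJ _).1 ((hVmem y (hVT hy)).2 hy))
        rw [hPM] at h1
        obtain ⟨s, hs⟩ := h1
        exact ⟨s, hs.symm⟩)
    have hg₂F : IsMap F (Q₁ ⊔ V) g₂ := isMap_of_subsystem (sub_normalizer hE) hg₂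
    have hg₂V : ∀ x ∈ V, g₂ x ∈ V := fun x hx => by
      obtain ⟨hgT, e⟩ := hg₂n x (Subgroup.mem_sup_right hx)
      have h1 := (Subgroup.mem_normalizer_iff.1 hnJ _).1 ((hVmem x (hVT hx)).2 hx)
      rw [e] at h1
      exact (hVmem _ hgT).1 h1
    have haQ₁ : g₁ a ∈ Q₁ ⊔ V := Subgroup.mem_sup_left (hg₁.mem_img haQ)
    have hfa : f a = g₂ (g₁ a) := by
      obtain ⟨h1, e1⟩ := hg₁c a (Subgroup.mem_sup_left haQ)
      obtain ⟨h2, e2⟩ := hg₂n (g₁ a) haQ₁
      have h3 : μ ⟨f a, hf.mem haQ⟩ = μ ⟨g₂ (g₁ a), h2⟩ := by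
        rw [← hg a haQ, ← e2, ← e1]
        group
      exact congrArg Subtype.val (hμ.1 h3)
    rw [hfa]
    by_cases hT : TU = S
    · have hVJ : V = J := by rw [hVdef, hT]
      exact hinv hg₂F (hVJ ▸ le_sup_right) (fun x hx => hVJ ▸ hg₂V x (hVJ.symm ▸ hx)) _ hb
    have hVS : V ≤ S := hVT.trans hTS
    have hVne : V ≠ ⊥ := fun e => omegaZ_ne_bot hS hne (le_bot_iff.1 fun z hz => by
      obtain ⟨h1, h2, h3⟩ := mem_omegaZ.1 hz
      exact e.le (mem_jOf_of_central (hZT hz) h3 fun t ht => Subgroup.mem_centralizer_iff.1 h2 t (hTS ht)))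
    have hTM : Nat.card TU < Nat.card (normalizerIn S V) := by
      have hlt := lt_normalizerIn hS le_rfl (lt_of_le_of_ne hTS hT)
      haveI := hfin V
      haveI := hfin TU
      refine lt_of_lt_of_le (b := Nat.card (normalizerIn S TU)) ?_
        (Subgroup.card_le_of_le fun t ht =>
          ⟨ht.1, PLocal.normalizer_le_normalizer_thompsonSubgroupOf _ ht.2⟩)
      refine lt_of_le_of_ne (Subgroup.card_le_of_le hlt.le) fun e => hlt.ne ?_
      exact eq_of_le_of_card inf_le_left hlt.le e.ge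
    have hNS : ∀ R : Subgroup Ω, Nat.card (normalizerIn S R) ≤ Nat.card S :=
      fun R => Subgroup.card_le_of_le inf_le_left
    have hbig : ∀ {R : Subgroup Ω} {h : Ω → Ω}, IsMap F R h → Nat.card TU < Nat.card R →
        ∀ b ∈ R, b ∈ A → h b ∈ A := by
      intro R h hh
      refine FusionChain.alperin_induction hS hF
        (fun R h => Nat.card TU < Nat.card R → ∀ b ∈ R, b ∈ A → h b ∈ A) ?_ ?_ ?_ ?_ hh
      · exact fun P f g _ h e hlt b hb' hbA => e b hb' ▸ h hlt b hb' hbA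
      · intro P P' f hf hle h hlt b hb' hbA
        haveI := finite_of_le hf.le
        exact h (hlt.trans_le (Subgroup.card_le_of_le hle)) b (hle hb') hbA
      · intro P P' f g hf hg hfP h h' hlt b hb' hbA
        refine h' (hlt.trans_le ?_) _ (hfP b hb') (h hlt b hb' hbA)
        rw [← hf.card_img le_rfl]
        haveI := finite_of_le hg.le
        exact Subgroup.card_le_of_le (hf.img_le le_rfl hfP)
      · intro R hR _ _ α hα _ hlt
        obtain ⟨E', hE'⟩ := exists_normalizerSystem (F := F) hR.1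
        haveI := hfin R
        have h1 := Subgroup.card_le_of_le (le_normalizerIn hR.1)
        refine ihk _ ?_ R rfl hR (fun h => ?_) E' hE' R _ ((isMap_normalizer_iff hR.1 hE').2
          ⟨le_normalizerIn hR.1, fun x hx => le_normalizerIn hR.1 (autFn_mem α hx), autFn α,
            by rw [sup_idem]; exact (isIso_autFn hR.1 hα).1, fun _ _ => rfl,
            fun x hx => autFn_mem α hx⟩)
        · have := hNS R; omega
        · rw [h, Subgroup.card_bot] at hlt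
          have := Nat.card_pos (α := TU)
          omega
    obtain ⟨V', f₁, hV', hf₁, hf₁V, hf₁N⟩ := exists_fullyNormalized_map hS hF hVS
    obtain ⟨j, hj, hjf, -⟩ := hf₁.isIso.symm
    have hTV : TU ≤ normalizerIn S V := fun t ht =>
      ⟨hTS ht, PLocal.normalizer_le_normalizer_thompsonSubgroupOf _ (Subgroup.le_normalizer ht)⟩
    have hWV : Q₁ ⊔ V ≤ normalizerIn S V := hg₂.le.trans hTV
    have hgM : ∀ x ∈ Q₁ ⊔ V, g₂ x ∈ normalizerIn S V := fun x hx => hTV (hg₂.mem hx)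
    set Q₂ := img f₁ (Q₁ ⊔ V)
    have hj' : ∀ y ∈ Q₂, j y ∈ Q₁ ⊔ V := fun y hy => by
      obtain ⟨x, hx, rfl⟩ := (hf₁.mem_img_iff hWV).1 hy
      rw [hjf x (hWV hx)]; exact hx
    set h := fun y => f₁ (g₂ (j y))
    have hhF : IsMap F Q₂ h :=
      ((hj.1.mono (Subgroup.closure_mono (Set.image_mono hWV))).comp hg₂F hj').comp hf₁
        fun y hy => hgM _ (hj' y hy)
    obtain ⟨E', hE'⟩ := exists_normalizerSystem (F := F) hV'.1
    have hVle : V ≤ normalizerIn S V := le_normalizerIn hVS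
    have hQ₂N : Q₂ ≤ normalizerIn S V' := hf₁.img_le hWV fun x hx => hf₁N x (hWV hx)
    have hV'Q : V' ≤ Q₂ := hf₁V ▸ Subgroup.closure_mono (Set.image_mono
      (SetLike.coe_subset_coe.2 le_sup_right))
    have hgood : ∀ y ∈ Q₂, y ∈ A → h y ∈ A := by
      refine ihk _ ?_ V' rfl hV' (fun e => hVne ?_) E' hE' Q₂ h
        ((isMap_normalizer_iff hV'.1 hE').2 ⟨hQ₂N, fun y hy => hf₁N _ (hgM _ (hj' y hy)), h,
          (sup_eq_left.2 hV'Q).symm ▸ hhF, fun _ _ => rfl, fun y hy => ?_⟩)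
      · have h1 := hV'.2 V (isConj_symm (isConj_iff.2 ⟨f₁, hf₁.mono hVle, hf₁V⟩))
        have h2 := hNS V'
        omega
      · have := hf₁.card_img hVle
        rw [hf₁V, e, Subgroup.card_bot] at this
        exact Subgroup.card_eq_one.1 this.symm
      · obtain ⟨x, hx, rfl⟩ := (hf₁.mem_img_iff hVle).1 (hf₁V.symm ▸ hy)
        show f₁ (g₂ (j (f₁ x))) ∈ V'
        rw [hjf x (hVle hx), ← hf₁V]
        exact hf₁.mem_img (hg₂V x hx)
    have h1 : f₁ (g₁ a) ∈ A := hbig hf₁ hTM _ (hWV haQ₁) hb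
    have h2 : h (f₁ (g₁ a)) ∈ A := hgood _ (hf₁.mem_img haQ₁) h1
    have h3 := hbig hj.1 (hTM.trans_eq (hf₁.card_img le_rfl).symm) _
      (hf₁.mem_img (hgM _ (hj' _ (hf₁.mem_img haQ₁)))) h2
    rw [show g₂ (g₁ a) = j (h (f₁ (g₁ a))) by
      show _ = j (f₁ (g₂ (j (f₁ (g₁ a)))))
      rw [hjf _ (hWV haQ₁), hjf _ (hgM _ haQ₁)]]
    exact h3
  have hAc : IsMulCommutative A := ⟨⟨fun a b => Subtype.ext (hAcomm a a.2 b b.2)⟩⟩
  refine ⟨A, hAne, hAc, isNormal_of_abelian hS hF (stronglyClosed_iff.2 ⟨hAJ.trans hJS,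
    fun P f hf x hxP hxA => ?_⟩) hAc⟩
  refine FusionChain.alperin_induction hS hF (fun P f => ∀ x ∈ P, x ∈ A → f x ∈ A) ?_ ?_ ?_ ?_ hf x hxP hxA
  · exact fun P f g _ h e b hb hbA => e b hb ▸ h b hb hbA
  · exact fun P P' f _ hle h b hb hbA => h b (hle hb) hbA
  · exact fun P P' f g _ _ hfP h h' b hb hbA => h' _ (hfP b hb) (h b hb hbA)
  intro R hR hRc _ α hα _
  obtain ⟨E', hE'⟩ := exists_normalizerSystem (F := F) hR.1
  refine claim _ R rfl hR (fun h => hne ?_) E' hE' R _ ((isMap_normalizer_iff hR.1 hE').2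
    ⟨le_normalizerIn hR.1, fun x hx => le_normalizerIn hR.1 (autFn_mem α hx), autFn α,
      by rw [sup_idem]; exact (isIso_autFn hR.1 hα).1, fun _ _ => rfl,
      fun x hx => autFn_mem α hx⟩)
  refine le_bot_iff.1 fun s hs => h.le (hRc.2 R (isConj_refl F hR.1) (mem_centralizerIn.2
    ⟨hs, fun x hx => ?_⟩))
  rw [Subgroup.mem_bot.1 (h.le hx), mul_one, one_mul]

/-- An `S₄`-free system has an abelian series of strongly closed subgroups. -/
theorem series_of_goldschmidt [Finite S] (hG : SFourBound.GoldschmidtThm.{u}) (hS : IsPGroup 2 S)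
    (hF : F.IsSaturated 2) (hfree : F.IsSectionFree 2 (Equiv.Perm (Fin 4))) : Series F ⊥ S := by
  haveI : Fact (Nat.Prime 2) := ⟨Nat.prime_two⟩
  refine system_induction (fun Ω _ S F => Finite S → IsPGroup 2 S → F.IsSaturated 2 →
    F.IsSectionFree 2 (Equiv.Perm (Fin 4)) → Series F ⊥ S) ?_ Ω S F inferInstance hS hF hfree
  intro Ω _ S F ih hfin hS hF hfree
  by_cases hSb : S = ⊥
  · subst hSb; exact Relation.ReflTransGen.refl
  obtain ⟨R, hRne, hRab, hR⟩ :
      ∃ R : Subgroup Ω, R ≠ ⊥ ∧ IsMulCommutative R ∧ F.IsNormal R := by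
    by_cases hcore : F.core = ⊥
    · refine exists_normal_abelian hG hS hSb hF hfree fun U hU hUne E hE => ?_
      haveI : Finite (normalizerIn S U) := finite_of_le (S := S) inf_le_left
      have hnn : ¬ F.IsNormal U := fun h => hUne (le_bot_iff.1 (hcore ▸ normal_le_core h))
      exact isConstrained_of_series (hS.to_le inf_le_left) (isSaturated_normalizer hS hF hU hE)
        (ih _ _ E (smaller_normalizer hU.1 hnn hE) inferInstance (hS.to_le inf_le_left)
          (isSaturated_normalizer hS hF hU hE) (isSectionFree_normalizer hS hF hU hE hfree))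
    · set U := F.core
      have hU : F.IsNormal U := isNormal_core
      have hab : IsMulCommutative (U ⊓ Subgroup.centralizer (U : Set Ω) : Subgroup Ω) :=
        ⟨⟨fun a b => Subtype.ext (Subgroup.mem_centralizer_iff.1 b.2.2 a a.2.1)⟩⟩
      haveI := finite_of_le (S := S) hU.1
      refine ⟨_, Fusion.center_ne_bot (hS.to_le hU.1) hcore, hab,
        isNormal_of_abelian hS hF (stronglyClosed_iff.2 ⟨inf_le_left.trans hU.1,
          fun P f hf x hxP hx => ?_⟩) hab⟩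
      obtain ⟨g, hg, e, hgU⟩ := (FusionChain.isNormal_iff.1 hU).2 P f hf
      rw [← e x hxP]
      refine ⟨hgU x hx.1, Subgroup.mem_centralizer_iff.2 fun y hy => ?_⟩
      have himg : img g U = U := eq_of_le_of_card hU.1 (hg.img_le le_sup_right hgU)
        (hg.card_img le_sup_right).ge
      obtain ⟨z, hz, rfl⟩ := (hg.mem_img_iff le_sup_right).1 (himg.symm ▸ hy)
      rw [← hg.map_mul (Subgroup.mem_sup_right hz) (Subgroup.mem_sup_right hx.1),
        ← hg.map_mul (Subgroup.mem_sup_right hx.1) (Subgroup.mem_sup_right hz),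
        Subgroup.mem_centralizer_iff.1 hx.2 z hz]
  have hRc : F.StronglyClosed R := stronglyClosed_of_normal hR
  have hab : ⁅R, R⁆ ≤ ⊥ := abelian_iff.2 hRab
  haveI := normal_subgroupOf hRc
  have D := quotientData hRc (F := F)
  obtain ⟨E, hE⟩ := D.exists_factorSystem
  haveI := D.finite_S'
  have hser := ih _ ⊤ E (Or.inl (D.card_lt hRne)) inferInstance (D.isPGroup_S' hS)
    (D.isSaturated_factor hS hF hE) (isSectionFree_factor hS hF hR hE hfree)
  have h := Relation.ReflTransGen.lift (preimageAlong (QuotientGroup.mk' (R.subgroupOf S)))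
    (fun A B => step_preimage hS hF D hE) _ _ hser
  simp only [Function.onFun, preimage_bot D, D.preimage_S'] at h
  exact Relation.ReflTransGen.head ⟨stronglyClosed_bot F, hRc, bot_le, hab⟩ h

/-- The statement of S5109, from Goldschmidt's theorem. -/
theorem constrained_of_sThreeFree' [Finite S] (hG : SFourBound.GoldschmidtThm.{u})
    (hS : IsPGroup 2 S) (hF : F.IsSaturated 2)
    (h3 : ∀ U : Subgroup Ω, U ≤ S → ¬ Cfsg.Involves (Equiv.Perm (Fin 3)) ↥(F.autGroup U)) :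
    F.IsConstrained 2 :=
  haveI : Fact (Nat.Prime 2) := ⟨Nat.prime_two⟩
  isConstrained_of_series hS hF
    (series_of_goldschmidt hG hS hF (isSectionFree_of_sThreeFree h3))

/-- The statement of S5282, from Goldschmidt's theorem. -/
theorem qdFree_realizable_solvable' [Finite S] {p : ℕ} [Fact p.Prime]
    (hG : SFourBound.GoldschmidtThm.{u}) (hS : IsPGroup p S) (hF : F.IsSaturated p)
    (hfree : F.IsSectionFree p ↥(Cfsg.qd p)) : F.IsRealizable p ∧ F.IsSolvableSystem := by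
  have h : Series F ⊥ S := by
    by_cases hp : p = 2
    · subst hp
      obtain ⟨e⟩ := Cfsg.Agent.S2761.result
      exact series_of_goldschmidt hG hS hF fun Q h1 h2 N hN L _ ι hι hinv =>
        hfree Q h1 h2 N hN L ι hι (Involves.involves_of_mulEquiv e.symm hinv)
    · exact series_of_qdFree hp hS hF hfree
  exact ⟨realizable_of_constrained hS (isConstrained_of_series hS hF h),
    (solvable_iff_series hS hF).2 h⟩

end Cfsg.Agent.FusionSolvable
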