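import Cfsg.Agent.EqLemmas
import Cfsg.Agent.Lib.Fusion.Quotient
import Cfsg.Agent.Lib.Fusion.NormalSeries
import Cfsg.Agent.Lib.FusionChain.Puig
import Cfsg.Agent.S5145

/-
Solvable fusion systems: a saturated system is solvable iff it has a series of strongly closed
subgroups with abelian quotients.
Main results: `solvable_iff_series`, `series_iff_chain`, `isConstrained_of_series`,
`solvable_iff_normal_factor`.
-/

set_option autoImplicit false

namespace Cfsg.Agent.FusionSolvable

open Cfsg Cfsg.FusionSystem Cfsg.Agent.Fusion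
open scoped commutatorElement

variable {Ω : Type*} [Group Ω] {S : Subgroup Ω} {F : FusionSystem S}

/-- One step of an abelian series of strongly closed subgroups. -/
def AbStep (F : FusionSystem S) (A B : Subgroup Ω) : Prop :=
  F.StronglyClosed A ∧ F.StronglyClosed B ∧ A ≤ B ∧ ⁅B, B⁆ ≤ A

/-- An abelian series of strongly closed subgroups from `A` to `B`. -/
abbrev Series (F : FusionSystem S) (A B : Subgroup Ω) : Prop :=
  Relation.ReflTransGen (AbStep F) A B

theorem stronglyClosed_bot (F : FusionSystem S) : F.StronglyClosed ⊥ := by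
  refine stronglyClosed_iff.2 ⟨bot_le, fun P f hf x _ hx => ?_⟩
  rw [Subgroup.mem_bot.1 hx, hf.map_one]
  exact one_mem _

theorem stronglyClosed_self (F : FusionSystem S) : F.StronglyClosed S :=
  stronglyClosed_iff.2 ⟨le_rfl, fun _ _ hf _ hx _ => hf.mem hx⟩

theorem stronglyClosed_inter {A B : Subgroup Ω} (hA : F.StronglyClosed A)
    (hB : F.StronglyClosed B) : F.StronglyClosed (A ⊓ B) :=
  stronglyClosed_iff.2 ⟨inf_le_left.trans hA.1, fun P f hf x hxP hx =>
    ⟨(stronglyClosed_iff.1 hA).2 P f hf x hxP hx.1, (stronglyClosed_iff.1 hB).2 P f hf x hxP hx.2⟩⟩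

theorem normal_subgroupOf {R : Subgroup Ω} (hR : F.StronglyClosed R) : (R.subgroupOf S).Normal :=
  ⟨fun _ hn g => conj_mem_of_stronglyClosed hR g.2 hn⟩

/-- A series is the same as a chain indexed by `Fin`. -/
theorem series_iff_chain :
    Series F ⊥ S ↔ ∃ (n : ℕ) (T : Fin (n + 1) → Subgroup Ω), T 0 = ⊥ ∧ T (Fin.last n) = S ∧
      Monotone T ∧ (∀ i, F.StronglyClosed (T i)) ∧
      ∀ i : Fin n, ⁅T i.succ, T i.succ⁆ ≤ T (Fin.castSucc i) := by
  constructor
  · have key : ∀ B, Series F ⊥ B → ∃ (n : ℕ) (T : Fin (n + 1) → Subgroup Ω), T 0 = ⊥ ∧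
        T (Fin.last n) = B ∧ Monotone T ∧ (∀ i, F.StronglyClosed (T i)) ∧
        ∀ i : Fin n, ⁅T i.succ, T i.succ⁆ ≤ T (Fin.castSucc i) := by
      intro B h
      induction h with
      | refl => exact ⟨0, fun _ => ⊥, rfl, rfl, monotone_const, fun _ => stronglyClosed_bot F,
          fun i => i.elim0⟩
      | @tail B C _ hs ih =>
        obtain ⟨n, T, h0, hl, hm, hc, hq⟩ := ih
        refine ⟨n + 1, Fin.snoc T C, ?_, Fin.snoc_last .., ?_, ?_, ?_⟩
        · rw [← Fin.castSucc_zero, Fin.snoc_castSucc, h0]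
        · refine Fin.monotone_iff_le_succ.2 fun i => ?_
          induction i using Fin.lastCases with
          | last => rw [Fin.succ_last, Fin.snoc_last, Fin.snoc_castSucc, hl]; exact hs.2.2.1
          | cast i =>
            rw [Fin.succ_castSucc, Fin.snoc_castSucc, Fin.snoc_castSucc]
            exact hm (Fin.castSucc_le_succ i)
        · intro i
          induction i using Fin.lastCases with
          | last => rw [Fin.snoc_last]; exact hs.2.1
          | cast i => rw [Fin.snoc_castSucc]; exact hc i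
        · intro i
          induction i using Fin.lastCases with
          | last => rw [Fin.succ_last, Fin.snoc_last, Fin.snoc_castSucc, hl]; exact hs.2.2.2
          | cast i => rw [Fin.succ_castSucc, Fin.snoc_castSucc, Fin.snoc_castSucc]; exact hq i
    exact fun h => key S h
  · rintro ⟨n, T, h0, hl, hm, hc, hq⟩
    have key : ∀ i, Series F ⊥ (T i) := fun i => by
      induction i using Fin.induction with
      | zero => rw [h0]
      | succ i ih => exact ih.tail ⟨hc _, hc _, hm (Fin.castSucc_le_succ i), hq i⟩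
    exact hl ▸ key (Fin.last n)

theorem abelian_iff {A : Subgroup Ω} : ⁅A, A⁆ ≤ ⊥ ↔ IsMulCommutative A := by
  rw [le_bot_iff, Subgroup.commutator_eq_bot_iff_le_centralizer,
    Subgroup.le_centralizer_iff_isMulCommutative]

section Quotient

variable {Ω' : Type*} [Group Ω'] {S₀ : Subgroup Ω} {θ : S →* Ω'} {S' : Subgroup Ω'}
  {E : FusionSystem S'}

theorem stronglyClosed_image (D : QData F S₀ θ S') (hE : F.IsFactorSystem S₀ θ E)
    {A : Subgroup Ω} (hA : F.StronglyClosed A) : E.StronglyClosed (imageAlong θ A) := by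
  refine stronglyClosed_iff.2 ⟨fun y hy => ?_, fun P' f' hf' y hy hyA => ?_⟩
  · obtain ⟨a, -, haS, rfl⟩ := mem_imageAlong.1 hy
    exact D.thF_mem haS
  · obtain ⟨-, f, hf, h⟩ := (QData.isMap_factor_iff hE).1 hf'
    obtain ⟨a, ha, haS, rfl⟩ := mem_imageAlong.1 hyA
    have haP : a ∈ preimageAlong θ P' := mem_preimageAlong.2 ⟨haS, hy⟩
    rw [h a haP]
    exact mem_imageAlong.2 ⟨f a, (stronglyClosed_iff.1 hA).2 _ f hf a haP ha, hf.mem haP, rfl⟩

theorem stronglyClosed_preimage [Finite S] {p : ℕ} [Fact p.Prime] (hS : IsPGroup p S)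
    (hF : F.IsSaturated p) (D : QData F S₀ θ S') (hE : F.IsFactorSystem S₀ θ E)
    {A' : Subgroup Ω'} (hA : E.StronglyClosed A') : F.StronglyClosed (preimageAlong θ A') := by
  refine stronglyClosed_iff.2 ⟨preimageAlong_le θ _, fun P f hf x hxP hx => ?_⟩
  obtain ⟨g, hg, hgf⟩ := FusionChain.exists_map_congr_mod hS hF D.closed hf
  obtain ⟨f', hf', e⟩ := D.isMap_image hE hg le_sup_right
  have hx' : x ∈ P ⊔ S₀ := Subgroup.mem_sup_left hxP
  have h1 : f' (thF θ x) ∈ A' := (stronglyClosed_iff.1 hA).2 _ f' hf' _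
    (mem_imageAlong.2 ⟨x, hx', hf.le hxP, rfl⟩) (mem_preimageAlong.1 hx).2
  rw [e x hx', (D.thF_eq_iff (hg.mem hx') (hf.mem hxP)).2 (hgf x hxP)] at h1
  exact mem_preimageAlong.2 ⟨hf.mem hxP, h1⟩

theorem preimage_bot (D : QData F S₀ θ S') : preimageAlong θ (⊥ : Subgroup Ω') = S₀ := by
  refine le_antisymm (fun x hx => ?_) (D.le_preimage _)
  obtain ⟨hxS, h⟩ := mem_preimageAlong.1 hx
  rw [Subgroup.mem_bot, thF_apply θ hxS] at h
  exact (D.ker_iff _).1 h

theorem image_le_bot (D : QData F S₀ θ S') {A : Subgroup Ω} (h : A ≤ S₀) :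
    imageAlong θ A ≤ ⊥ := by
  rintro _ ⟨s, hs, rfl⟩
  exact Subgroup.mem_bot.2 ((D.ker_iff s).2 (h hs))

theorem image_commutator {A B : Subgroup Ω} (h : ⁅B, B⁆ ≤ A) :
    ⁅imageAlong θ B, imageAlong θ B⁆ ≤ imageAlong θ A := by
  unfold imageAlong
  rw [← Subgroup.map_commutator]
  refine Subgroup.map_mono (Subgroup.commutator_le.2 fun x hx y hy => ?_)
  exact h (Subgroup.commutator_mem_commutator hx hy)

theorem step_image (D : QData F S₀ θ S') (hE : F.IsFactorSystem S₀ θ E) {A B : Subgroup Ω}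
    (h : AbStep F A B) : AbStep E (imageAlong θ A) (imageAlong θ B) :=
  ⟨stronglyClosed_image D hE h.1, stronglyClosed_image D hE h.2.1,
    Subgroup.map_mono (Subgroup.comap_mono h.2.2.1), image_commutator h.2.2.2⟩

theorem step_preimage [Finite S] {p : ℕ} [Fact p.Prime] (hS : IsPGroup p S)
    (hF : F.IsSaturated p) (D : QData F S₀ θ S') (hE : F.IsFactorSystem S₀ θ E)
    {A B : Subgroup Ω'} (h : AbStep E A B) :
    AbStep F (preimageAlong θ A) (preimageAlong θ B) := by
  refine ⟨stronglyClosed_preimage hS hF D hE h.1, stronglyClosed_preimage hS hF D hE h.2.1,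
    Subgroup.map_mono (Subgroup.comap_mono h.2.2.1), ?_⟩
  unfold preimageAlong
  rw [← Subgroup.map_commutator]
  refine Subgroup.map_mono (Subgroup.map_le_iff_le_comap.1 ?_)
  rw [Subgroup.map_commutator]
  exact (Subgroup.commutator_mono (Subgroup.map_comap_le ..) (Subgroup.map_comap_le ..)).trans
    h.2.2.2

end Quotient

theorem exists_first_step {R B : Subgroup Ω} (h : Series F ⊥ B) :
    B ≤ R ∨ ∃ A C, AbStep F A C ∧ A ≤ R ∧ ¬ C ≤ R := by
  induction h with
  | refl => exact Or.inl bot_le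
  | @tail B C _ hs ih =>
    rcases ih with h | h
    · by_cases hC : C ≤ R
      · exact Or.inl hC
      · exact Or.inr ⟨B, C, hs, h, hC⟩
    · exact Or.inr h

/-- Solvability is the existence of an abelian series of strongly closed subgroups. -/
theorem solvable_iff_series [Finite S] {p : ℕ} [Fact p.Prime] (hS : IsPGroup p S)
    (hF : F.IsSaturated p) : F.IsSolvableSystem ↔ Series F ⊥ S := by
  constructor
  · intro hsol
    suffices key : ∀ k (R : Subgroup Ω), F.StronglyClosed R → Nat.card S - Nat.card R = k →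
        Series F ⊥ R → Series F ⊥ S from
      key _ ⊥ (stronglyClosed_bot F) rfl Relation.ReflTransGen.refl
    intro k
    induction k using Nat.strong_induction_on with
    | _ k ih =>
      intro R hR hk hser
      by_cases hRS : R = S
      · exact hRS ▸ hser
      haveI := normal_subgroupOf hR
      have D : QData F R (QuotientGroup.mk' (R.subgroupOf S)) ⊤ :=
        ⟨hR, fun s => QuotientGroup.eq_one_iff s,
          MonoidHom.range_eq_top.2 (QuotientGroup.mk'_surjective _)⟩
      obtain ⟨E, hE⟩ := D.exists_factorSystem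
      obtain ⟨Q, hQ, hQne⟩ := core_ne_bot_iff.1 (hsol R hR hRS E hE)
      haveI := D.finite_S'
      obtain ⟨A, hA, hab, hAc⟩ :=
        exists_abelian_stronglyClosed_of_normal (D.isPGroup_S' hS) hQ hQne
      have hstep := step_preimage hS hF D hE
        (A := ⊥) (B := A) ⟨stronglyClosed_bot E, hAc, bot_le, abelian_iff.2 hab⟩
      rw [preimage_bot D] at hstep
      set B := preimageAlong (QuotientGroup.mk' (R.subgroupOf S)) A
      have hne : R ≠ B := fun e => hA <| by
        rw [← D.image_preimage hAc.1]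
        exact le_bot_iff.1 (image_le_bot D e.ge)
      haveI := finite_of_le hstep.2.1.1
      have hlt : Nat.card R < Nat.card B :=
        lt_of_le_of_ne (Subgroup.card_le_of_le hstep.2.2.1)
          fun e => hne (eq_of_le_of_card hstep.2.1.1 hstep.2.2.1 e.ge)
      have hle : Nat.card B ≤ Nat.card S := Subgroup.card_le_of_le hstep.2.1.1
      exact ih (Nat.card S - Nat.card B) (by omega) B hstep.2.1 rfl (hser.tail hstep)
  · intro hser R hR hRS hn E hE
    have D : QData F R (QuotientGroup.mk' (R.subgroupOf S)) ⊤ := QData.ofFactor hR hE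
    haveI := D.finite_S'
    rcases exists_first_step (R := R) hser with h | ⟨A, C, hs, hA, hC⟩
    · exact absurd (le_antisymm hR.1 h) hRS
    have hcl := stronglyClosed_image D hE hs.2.1
    have hab := abelian_iff.1 ((image_commutator hs.2.2.2).trans (image_le_bot D hA))
    refine core_ne_bot_iff.2 ⟨_, isNormal_of_abelian (D.isPGroup_S' hS)
      (D.isSaturated_factor hS hF hE) hcl hab, fun e => hC ?_⟩
    calc C ≤ C ⊔ R := le_sup_left
      _ = _ := (D.preimage_image hs.2.1.1).symm
      _ = R := by rw [e, preimage_bot D]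

/-- A system with an abelian series is constrained. -/
theorem isConstrained_of_series [Finite S] {p : ℕ} [Fact p.Prime] (hS : IsPGroup p S)
    (hF : F.IsSaturated p) (hser : Series F ⊥ S) : F.IsConstrained p := by
  have hQ : F.IsNormal F.core := S5145.result F
  set Q := F.core with hQdef
  have hQc := stronglyClosed_of_normal hQ
  have hC : F.StronglyClosed (centralizerIn S Q) := by
    refine stronglyClosed_iff.2 ⟨inf_le_left, fun P f hf x hxP hx => ?_⟩
    obtain ⟨g, hg, hgf, hgQ⟩ := (FusionChain.isNormal_iff.1 hQ).2 P f hf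
    rw [← hgf x hxP]
    refine mem_centralizerIn.2 ⟨hg.mem (Subgroup.mem_sup_left hxP), fun q hq => ?_⟩
    have himg : img g Q = Q := eq_of_le_of_card hQ.1 (hg.img_le le_sup_right hgQ)
      (hg.card_img le_sup_right).ge
    obtain ⟨q', hq', rfl⟩ := (hg.mem_img_iff (le_sup_right : Q ≤ P ⊔ Q)).1 (himg.symm ▸ hq)
    rw [← hg.map_mul (Subgroup.mem_sup_right hq') (Subgroup.mem_sup_left hxP),
      ← hg.map_mul (Subgroup.mem_sup_left hxP) (Subgroup.mem_sup_right hq'),
      (mem_centralizerIn.1 hx).2 q' hq']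
  have hle : centralizerIn S Q ≤ Q := by
    by_contra hne
    have key : ∀ B, Series F ⊥ B → centralizerIn S Q ⊓ B ≤ Q := by
      intro B hB
      induction hB with
      | refl => simp
      | @tail B B' _ hs ih =>
        set A := centralizerIn S Q ⊓ B' with hA
        have hAc : F.StronglyClosed A := stronglyClosed_inter hC hs.2.1
        have hAQ : ⁅A, A⁆ ≤ A ⊓ Q := by
          refine le_inf (Subgroup.commutator_le.2 fun x hx y hy => ?_) ?_
          · exact A.mul_mem (A.mul_mem (A.mul_mem hx hy) (A.inv_mem hx)) (A.inv_mem hy)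
          · refine le_trans (le_inf ?_ ?_) ih
            · exact Subgroup.commutator_le.2 fun x hx y hy =>
                mul_mem (mul_mem (mul_mem hx.1 hy.1) (inv_mem hx.1)) (inv_mem hy.1)
            · exact (Subgroup.commutator_mono inf_le_right inf_le_right).trans hs.2.2.2
        have hn : F.IsNormal A := by
          refine isNormal_of_chain hS hF 2
            (fun i => if i = 0 then ⊥ else if i = 1 then A ⊓ Q else A) rfl rfl
            (monotone_nat_of_le_succ fun i => ?_) hAc (fun i _ hi => ?_) fun i hi => ?_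
          · rcases i with _ | _ | i <;> simp
          · rcases i with _ | _ | i
            · omega
            · simpa using stronglyClosed_inter hAc hQc
            · simpa using hAc
          · rcases i with _ | _ | i
            · simp only [if_true, Nat.zero_add, one_ne_zero, if_false, le_bot_iff]
              rw [Subgroup.commutator_eq_bot_iff_le_centralizer]
              intro x hx y hy
              exact ((mem_centralizerIn.1 hx.1).2 y hy.2).symm
            · simpa using hAQ
            · omega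
        exact normal_le_core hn
    exact hne (by simpa [inf_eq_left.2 hC.1] using key S hser)
  refine ⟨hF, Q, hQ, hQ.1, fun R hR => ?_⟩
  obtain ⟨f, hf⟩ := isConj_iff.1 hR
  have : R = Q := eq_of_le_of_card hQ.1 (fun y hy => by
    obtain ⟨x, hx, rfl⟩ := hf.exists_eq hy
    exact (stronglyClosed_iff.1 hQc).2 Q f hf.1 x hx hx) hf.card_eq.ge
  rw [this]
  exact hle

section Subsystem

variable {T : Subgroup Ω} {E : FusionSystem T}

theorem isMap_of_subsystem (h : E.IsSubsystemOf F) {P : Subgroup Ω} {f : Ω → Ω}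
    (hf : IsMap E P f) : IsMap F P f := by
  obtain ⟨φ, hφ, e⟩ := hf
  exact ⟨φ, h P hφ, e⟩

theorem step_inter (h : E.IsSubsystemOf F) {A B : Subgroup Ω} (hs : AbStep F A B) :
    AbStep E (A ⊓ T) (B ⊓ T) := by
  have key : ∀ A, F.StronglyClosed A → E.StronglyClosed (A ⊓ T) := fun A hA =>
    stronglyClosed_iff.2 ⟨inf_le_right, fun P f hf x hxP hx =>
      ⟨(stronglyClosed_iff.1 hA).2 P f (isMap_of_subsystem h hf) x hxP hx.1, hf.mem hxP⟩⟩
  refine ⟨key A hs.1, key B hs.2.1, inf_le_inf_right T hs.2.2.1, le_inf ?_ ?_⟩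
  · exact (Subgroup.commutator_mono inf_le_left inf_le_left).trans hs.2.2.2
  · exact Subgroup.commutator_le.2 fun x hx y hy =>
      mul_mem (mul_mem (mul_mem hx.2 hy.2) (inv_mem hx.2)) (inv_mem hy.2)

/-- The intersection of the images of `U ∩ T` under `Aut_F(T)`. -/
def invCore (F : FusionSystem S) (T U : Subgroup Ω) : Subgroup Ω :=
  (⨅ α : F.autGroup T, (U.subgroupOf T).comap (α : MulAut T).toMonoidHom).map T.subtype

theorem mem_invCore {U : Subgroup Ω} {x : Ω} :
    x ∈ invCore F T U ↔ x ∈ T ∧ ∀ α ∈ F.autGroup T, autFn α x ∈ U := by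
  constructor
  · rintro ⟨t, ht, rfl⟩
    refine ⟨t.2, fun α hα => ?_⟩
    rw [Subgroup.coe_subtype, autFn_apply α t.2]
    exact Subgroup.mem_iInf.1 ht ⟨α, hα⟩
  · rintro ⟨hx, h⟩
    refine ⟨⟨x, hx⟩, Subgroup.mem_iInf.2 fun α => ?_, rfl⟩
    have := h α α.2
    rwa [autFn_apply (α : MulAut T) hx] at this

theorem stronglyClosed_invCore (hE : E.IsInvariantIn F) {U : Subgroup Ω}
    (hU : E.StronglyClosed U) : F.StronglyClosed (invCore F T U) := by
  obtain ⟨-, hTc, hinv, hfr⟩ := hE
  refine stronglyClosed_iff.2 ⟨fun x hx => hTc.1 (mem_invCore.1 hx).1, fun P f hf x hxP hx => ?_⟩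
  obtain ⟨hxT, hxU⟩ := mem_invCore.1 hx
  have hfx : f x ∈ T := (stronglyClosed_iff.1 hTc).2 P f hf x hxP hxT
  refine mem_invCore.2 ⟨hfx, fun α hα => ?_⟩
  have hzP : Subgroup.zpowers x ≤ T := Subgroup.zpowers_le.2 hxT
  obtain ⟨φ, hφ, eφ⟩ := hf.mono (Subgroup.zpowers_le.2 hxP)
  obtain ⟨β, hβ, φ₀, hφ₀, e0⟩ := hfr _ hzP φ hφ
  obtain ⟨hzP', hφ₀T⟩ := E.le_of_mem hφ₀
  let z : Subgroup.zpowers x := ⟨x, Subgroup.mem_zpowers x⟩
  have e1 : f x = ((β ⟨φ₀ z, hφ₀T z⟩ : T) : Ω) := (eφ x z.2).symm.trans (e0 z (hφ₀T z))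
  obtain ⟨χ, hχ, eχ⟩ := hinv _ hzP φ₀ hφ₀ (α * β) (mul_mem hα hβ)
  have hm : (((α * β) ⟨x, hzP z.2⟩ : T) : Ω) ∈ ((Subgroup.zpowers x).subgroupOf T).map
      (T.subtype.comp (α * β).toMonoidHom) := ⟨⟨x, hzP z.2⟩, z.2, rfl⟩
  have hu : (((α * β) ⟨x, hzP z.2⟩ : T) : Ω) ∈ U := by
    have := hxU _ (mul_mem hα hβ)
    rwa [autFn_apply _ hxT] at this
  have h2 := (stronglyClosed_iff.1 hU).2 _ _ (isMap_toFn hχ) _ hm hu
  rw [toFn_apply χ hm, eχ z (hφ₀T z) hm] at h2
  rw [autFn_apply α hfx]
  have : (⟨f x, hfx⟩ : T) = β ⟨φ₀ z, hφ₀T z⟩ := Subtype.ext e1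
  rw [this]
  exact h2

theorem step_invCore (hE : E.IsInvariantIn F) {A B : Subgroup Ω} (hs : AbStep E A B) :
    AbStep F (invCore F T A) (invCore F T B) := by
  refine ⟨stronglyClosed_invCore hE hs.1, stronglyClosed_invCore hE hs.2.1, fun x hx => ?_,
    Subgroup.commutator_le.2 fun x hx y hy => ?_⟩
  · exact mem_invCore.2 ⟨(mem_invCore.1 hx).1, fun α hα => hs.2.2.1 ((mem_invCore.1 hx).2 α hα)⟩
  · obtain ⟨hxT, hx'⟩ := mem_invCore.1 hx
    obtain ⟨hyT, hy'⟩ := mem_invCore.1 hy
    refine mem_invCore.2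
      ⟨mul_mem (mul_mem (mul_mem hxT hyT) (inv_mem hxT)) (inv_mem hyT), fun α hα => ?_⟩
    have h1 := Subgroup.commutator_mem_commutator (hx' α hα) (hy' α hα)
    rw [autFn_apply α hxT, autFn_apply α hyT] at h1
    refine hs.2.2.2 ?_
    show autFn α ((⁅(⟨x, hxT⟩ : T), ⟨y, hyT⟩⁆ : T) : Ω) ∈ _
    rw [autFn_apply α (SetLike.coe_mem _)]
    rw [map_commutatorElement]
    exact h1

theorem invCore_bot : invCore F T ⊥ = ⊥ := by
  refine le_bot_iff.1 fun x hx => ?_
  obtain ⟨hxT, h⟩ := mem_invCore.1 hx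
  have := h 1 (one_mem _)
  rwa [autFn_apply _ hxT] at this

theorem invCore_self : invCore F T T = T :=
  le_antisymm (fun _ hx => (mem_invCore.1 hx).1)
    fun _ hx => mem_invCore.2 ⟨hx, fun α _ => autFn_mem α hx⟩

end Subsystem

/-- A normal subsystem and the factor system decide solvability. -/
theorem solvable_iff_normal_factor [Finite S] {p : ℕ} [Fact p.Prime] (hS : IsPGroup p S)
    (hF : F.IsSaturated p) {T : Subgroup Ω} {E : FusionSystem T} (hE : E.IsNormalIn F p)
    {Ω' : Type*} [Group Ω'] {S' : Subgroup Ω'} {θ : S →* Ω'} {D : FusionSystem S'}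
    (hD : F.IsFactorSystem T θ D) :
    F.IsSolvableSystem ↔ E.IsSolvableSystem ∧ D.IsSolvableSystem := by
  obtain ⟨⟨hEs, -, hEi⟩, -⟩ := hE
  have hTS : T ≤ S := hEi.2.1.1
  have Q : QData F T θ S' := QData.ofFactor hEi.2.1 hD
  haveI := finite_of_le hTS
  haveI := Q.finite_S'
  rw [solvable_iff_series hS hF, solvable_iff_series (hS.to_le hTS) hEs,
    solvable_iff_series (Q.isPGroup_S' hS) (Q.isSaturated_factor hS hF hD)]
  constructor
  · intro h
    constructor
    · have := Relation.ReflTransGen.lift (· ⊓ T) (fun A B => step_inter (E := E) hEi.1) _ _ h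
      simpa [Series, Function.onFun, inf_eq_right.2 hTS] using this
    · have := Relation.ReflTransGen.lift (imageAlong θ) (fun A B => step_image Q hD) _ _ h
      have h0 : imageAlong θ (⊥ : Subgroup Ω) = ⊥ := le_bot_iff.1 (image_le_bot Q bot_le)
      have h1 : imageAlong θ S = S' := by
        have e := congrArg (imageAlong θ) Q.preimage_S'
        rw [Q.image_preimage le_rfl] at e
        exact e.symm
      simpa [Series, Function.onFun, h0, h1] using this
  · rintro ⟨hE', hD'⟩
    have a := Relation.ReflTransGen.lift (invCore F T) (fun A B => step_invCore hEi) _ _ hE'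
    have b := Relation.ReflTransGen.lift (preimageAlong θ) (fun A B => step_preimage hS hF Q hD) _ _ hD'
    simp only [Function.onFun, invCore_bot, invCore_self] at a
    simp only [Function.onFun, preimage_bot Q, Q.preimage_S'] at b
    exact a.trans b

end Cfsg.Agent.FusionSolvable
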